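import Mathlib.FieldTheory.Finite.Basic
import Mathlib.GroupTheory.Sylow
import Cfsg.Prelude.Def_Transfer
import Cfsg.Agent.Lib.PGroups.ElemAb

/-!
# An element of prime order acting irreducibly on an elementary abelian group
-/

set_option autoImplicit false

namespace Cfsg.Agent.Lib.MinimalNonClosed67

open Cfsg Cfsg.Agent.Lib Polynomial

/-- In a finite integral domain with `x ^ Q = x` everywhere there are at most `Q` elements. -/
theorem card_le_of_pow_eq {K : Type*} [CommRing K] [IsDomain K] [Finite K] {Q : ℕ} (hQ : 1 < Q)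
    (h : ∀ x : K, x ^ Q = x) : Nat.card K ≤ Q := by
  classical
  have := Fintype.ofFinite K
  letI : Field K := Fintype.fieldOfDomain K
  obtain ⟨g, hg⟩ := IsCyclic.exists_generator (α := Kˣ)
  have hd : Nat.card Kˣ ∣ Q - 1 := by
    rw [← orderOf_eq_card_of_forall_mem_zpowers hg, orderOf_dvd_iff_pow_eq_one]
    have h1 : g ^ Q = g := Units.ext (by rw [Units.val_pow_eq_pow_val, h])
    rw [show Q = Q - 1 + 1 by omega, pow_succ] at h1
    exact mul_eq_right.1 h1
  have h2 := Nat.le_of_dvd (by omega) hd
  rw [Nat.card_units] at h2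
  omega

/-- A unit of order `p` forces `p ∣ |K| - 1`. -/
theorem dvd_card_sub_one {K : Type*} [CommRing K] [IsDomain K] [Finite K] {p : ℕ} [hp : Fact p.Prime]
    {s : K} (hs : s ^ p = 1) (hs1 : s ≠ 1) : p ∣ Nat.card K - 1 := by
  classical
  have := Fintype.ofFinite K
  letI : Field K := Fintype.fieldOfDomain K
  have hs0 : s ≠ 0 := fun h => by rw [h, zero_pow hp.out.ne_zero] at hs; exact zero_ne_one hs
  rw [← Nat.card_units, ← orderOf_eq_prime hs hs1,
    show s = ((Units.mk0 s hs0 : Kˣ) : K) from rfl, orderOf_units]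
  exact orderOf_dvd_natCard _

variable {V : Type*} [AddCommGroup V] [Finite V] [Nontrivial V] {p q : ℕ} [hp : Fact p.Prime]
  [hq : Fact q.Prime]

/-- Additive form: `σ` of order `p` irreducible on `V` of exponent `q` gives `|V| = q ^ ord_p(q)`. -/
theorem card_eq_of_irreducible_end (hqp : q ≠ p) (hV : ∀ v : V, q • v = 0) (σ : AddMonoid.End V)
    (hσ : σ ^ p = 1) (hσ1 : σ ≠ 1)
    (hirr : ∀ U : AddSubgroup V, (∀ u ∈ U, σ u ∈ U) → U = ⊥ ∨ U = ⊤) :
    Nat.card V = q ^ orderOf (q : ZMod p) := by
  classical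
  have : Nontrivial (AddMonoid.End V) := ⟨⟨σ, 1, hσ1⟩⟩
  have hq0 : ((q : ℕ) : AddMonoid.End V) = 0 := by
    ext v
    simpa using hV v
  have : CharP (AddMonoid.End V) q := (CharP.charP_iff_prime_eq_zero hq.out).2 hq0
  set e := orderOf (q : ZMod p)
  have hcop : ¬ p ∣ q := fun h => hqp ((Nat.prime_dvd_prime_iff_eq hp.out hq.out).1 h).symm
  have hqe : ((q ^ e : ℕ) : ZMod p) = 1 := by rw [Nat.cast_pow, pow_orderOf_eq_one]
  have hσQ : σ ^ q ^ e = σ := by
    have h1 : q ^ e % p = 1 := by
      have h := (ZMod.natCast_eq_natCast_iff' _ _ _).1 (hqe.trans Nat.cast_one.symm)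
      rwa [Nat.one_mod_eq_one.2 hp.out.ne_one] at h
    rw [pow_eq_pow_mod _ hσ, h1, pow_one]
  set R := Subring.closure ({σ} : Set (AddMonoid.End V))
  letI : CommRing R := Subring.closureCommRingOfComm (by simp)
  have hQ0 : q ^ e ≠ 0 := pow_ne_zero _ hq.out.ne_zero
  have hkey : ∀ r ∈ R, r ^ q ^ e = r ∧ Commute r σ := by
    intro r hr
    have hcR : ∀ a ∈ R, ∀ b ∈ R, Commute a b := fun a ha b hb =>
      congrArg Subtype.val (mul_comm (⟨a, ha⟩ : R) ⟨b, hb⟩)
    refine ⟨?_, hcR r hr σ (Subring.subset_closure rfl)⟩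
    refine Subring.closure_induction (p := fun x _ => x ^ q ^ e = x) ?_ (zero_pow hQ0) (one_pow _)
      ?_ ?_ ?_ hr
    · rintro x rfl; exact hσQ
    · intro x y hx hy hx' hy'
      rw [add_pow_char_pow_of_commute q e (hcR x hx y hy), hx', hy']
    · intro x hx hx'
      have h := add_pow_char_pow_of_commute q e (Commute.refl x).neg_right
      rw [add_neg_cancel, zero_pow hQ0, hx'] at h
      exact eq_neg_of_add_eq_zero_right h.symm
    · intro x y hx hy hx' hy'
      rw [(hcR x hx y hy).mul_pow, hx', hy']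
  have hker : ∀ r ∈ R, ∀ v : V, v ≠ 0 → r v = 0 → r = 0 := by
    intro r hr v hv hrv
    let K : AddSubgroup V :=
      { carrier := {u | r u = 0}
        zero_mem' := map_zero r
        add_mem' := fun {a b} ha hb => by simp_all
        neg_mem' := fun {a} ha => by simp_all }
    rcases hirr K (fun u hu => by
      change r (σ u) = 0
      have h := DFunLike.congr_fun (hkey r hr).2.eq u
      simp only [AddMonoid.End.coe_mul, Function.comp_apply] at h
      rw [h, show r u = 0 from hu, map_zero]) with h | h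
    · exact absurd ((AddSubgroup.mem_bot).1 (h ▸ (show v ∈ K from hrv))) hv
    · ext u
      exact (h.symm ▸ AddSubgroup.mem_top u : u ∈ K)
  have : IsDomain R := by
    have : NoZeroDivisors R := ⟨fun {a b} h => by
      by_cases hb : b = 0
      · exact Or.inr hb
      left
      obtain ⟨v, hv⟩ : ∃ v, (b : AddMonoid.End V) v ≠ 0 := by
        by_contra h'
        push Not at h'
        exact hb (Subtype.ext (AddMonoidHom.ext h'))
      exact Subtype.ext (hker a a.2 _ hv (by
        have := DFunLike.congr_fun (congrArg Subtype.val h) v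
        simpa using this))⟩
    exact NoZeroDivisors.to_isDomain R
  have : Finite R := Finite.of_injective (fun r : R => ((r : AddMonoid.End V) : V → V))
    fun a b h => Subtype.ext (DFunLike.coe_injective h)
  obtain ⟨v, hv⟩ := exists_ne (0 : V)
  have hbij : Function.Bijective (fun r : R => (r : AddMonoid.End V) v) := by
    refine ⟨fun a b h => ?_, ?_⟩
    · refine Subtype.ext (sub_eq_zero.1 (hker _ (sub_mem a.2 b.2) v hv ?_))
      exact sub_eq_zero.2 h
    · intro w
      let ev : R →+ V :=
        { toFun := fun r => (r : AddMonoid.End V) v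
          map_zero' := rfl
          map_add' := fun _ _ => rfl }
      rcases hirr ev.range (by
        rintro _ ⟨r, rfl⟩
        exact ⟨⟨σ, Subring.subset_closure rfl⟩ * r, rfl⟩) with h | h
      · exact absurd ((AddSubgroup.mem_bot).1 (h ▸ (⟨1, rfl⟩ : v ∈ ev.range))) hv
      · exact (h.symm ▸ AddSubgroup.mem_top w : w ∈ ev.range)
  have hcard : Nat.card R = Nat.card V := Nat.card_eq_of_bijective _ hbij
  have h1q : 1 < q ^ e := Nat.one_lt_pow (orderOf_pos_iff.2 (isOfFinOrder_iff_pow_eq_one.2
    ⟨p - 1, by have := hp.out.two_le; omega,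
      ZMod.pow_card_sub_one_eq_one (by rwa [Ne, ZMod.natCast_eq_zero_iff])⟩)).ne' hq.out.one_lt
  have hRle : Nat.card R ≤ q ^ e := card_le_of_pow_eq h1q fun r =>
    Subtype.ext (by rw [SubmonoidClass.coe_pow]; exact (hkey r r.2).1)
  have hdvd : p ∣ Nat.card R - 1 := dvd_card_sub_one (s := (⟨σ, Subring.subset_closure rfl⟩ : R))
    (Subtype.ext (by simpa using hσ)) fun h => hσ1 (congrArg Subtype.val h)
  obtain ⟨d, hd⟩ : ∃ d, Nat.card V = q ^ d := by
    have hgrp : IsPGroup q (Multiplicative V) := fun v => ⟨1, by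
      rw [pow_one]
      exact congrArg Multiplicative.ofAdd (hV v.toAdd)⟩
    obtain ⟨d, hd⟩ := IsPGroup.iff_card.1 hgrp
    exact ⟨d, (Nat.card_congr Multiplicative.ofAdd).trans hd⟩
  rw [hcard, hd] at hdvd
  have hed : e ∣ d := by
    rw [orderOf_dvd_iff_pow_eq_one]
    have h := (ZMod.natCast_eq_zero_iff (q ^ d - 1) p).2 hdvd
    rwa [Nat.cast_sub (Nat.one_le_pow _ _ hq.out.pos), Nat.cast_pow, Nat.cast_one, sub_eq_zero] at h
  have hd0 : d ≠ 0 := fun h => by
    have := Finite.one_lt_card (α := V)
    rw [hd, h, pow_zero] at this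
    omega
  rw [hcard, hd] at hRle
  have h1 := (Nat.pow_le_pow_iff_right hq.out.one_lt).1 hRle
  have h2 := Nat.le_of_dvd (Nat.pos_of_ne_zero hd0) hed
  rw [hd, show d = e by omega]

variable {G : Type*} [Group G] [Finite G]

omit [Finite V] [Nontrivial V] in
/-- An element of order `p` acting irreducibly on a normal elementary abelian `q`-subgroup. -/
theorem card_eq_of_irreducible (hqp : q ≠ p) {A : Subgroup G} [hAn : A.Normal]
    (hA : IsElementaryAbelian q A) {x : G} (hx : x ^ p = 1) {a : G} (ha : a ∈ A) (hxa : x * a ≠ a * x)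
    (hirr : ∀ B : Subgroup G, B ≤ A → (∀ b ∈ B, x * b * x⁻¹ ∈ B) → B = ⊥ ∨ B = A) :
    Nat.card A = q ^ orderOf (q : ZMod p) := by
  letI : CommGroup A := { (inferInstance : Group A) with
    mul_comm := fun u v => Subtype.ext (PGroups.elemAb_comm hA u.2 v.2) }
  have : Nontrivial A := ⟨⟨a, ha⟩, 1, fun h => hxa (by
    have : a = 1 := congrArg Subtype.val h
    rw [this, one_mul, mul_one])⟩
  let f : A →* A :=
    { toFun := fun u => ⟨x * u * x⁻¹, hAn.conj_mem u u.2 x⟩
      map_one' := Subtype.ext (by simp)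
      map_mul' := fun u v => Subtype.ext (by simp [mul_assoc]) }
  let σ : AddMonoid.End (Additive A) := MonoidHom.toAdditive f
  have hσk : ∀ (k : ℕ) (u : Additive A),
      ((Additive.toMul ((σ ^ k) u) : A) : G) = x ^ k * (Additive.toMul u : A) * (x ^ k)⁻¹ := by
    intro k
    induction k with
    | zero => intro u; simp
    | succ k ih =>
      intro u
      rw [pow_succ', AddMonoid.End.coe_mul, Function.comp_apply, pow_succ']
      change x * ((Additive.toMul ((σ ^ k) u) : A) : G) * x⁻¹ = _
      rw [ih]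
      group
  have h := card_eq_of_irreducible_end (V := Additive A) hqp
    (fun u => (ofMul_pow q (Additive.toMul u)).symm.trans (congrArg Additive.ofMul
      (Subtype.ext (by simpa using PGroups.elemAb_pow hA (Additive.toMul u).2) :
        (Additive.toMul u) ^ q = 1)))
    σ (by
      ext u
      change ((Additive.toMul ((σ ^ p) u) : A) : G) = (Additive.toMul u : A)
      rw [hσk, hx]; simp)
    (fun h1 => hxa (by
      have h2 := hσk 1 (Additive.ofMul ⟨a, ha⟩)
      rw [pow_one, pow_one, h1] at h2
      have h3 : a = x * a * x⁻¹ := h2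
      conv_rhs => rw [h3]
      group))
    (fun U hU => by
      let B : Subgroup G := (AddSubgroup.toSubgroup' U).map A.subtype
      rcases hirr B (Subgroup.map_subtype_le _) (by
        rintro _ ⟨u, hu, rfl⟩
        exact ⟨f u, hU _ hu, rfl⟩) with h | h
      · left
        rw [Subgroup.map_eq_bot_iff_of_injective _ A.subtype_injective] at h
        rw [AddSubgroup.eq_bot_iff_forall]
        intro u hu
        have hmem : Additive.toMul u ∈ AddSubgroup.toSubgroup' U := hu
        rw [h, Subgroup.mem_bot] at hmem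
        exact Additive.toMul.injective hmem
      · right
        rw [eq_top_iff]
        intro u _
        obtain ⟨u', hu', he⟩ : (Additive.toMul u : A).1 ∈ B := h.symm ▸ (Additive.toMul u).2
        have : u' = Additive.toMul u := Subtype.ext he
        rw [this] at hu'
        exact hu')
  rwa [Nat.card_congr (Additive.toMul (α := A))] at h

end Cfsg.Agent.Lib.MinimalNonClosed67
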