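import Cfsg.Prelude.Def_LocalStructure
import Cfsg.Agent.Lib.MinimalNonClosed67.Irreducible
import Cfsg.Agent.Lib.Coprime.Glauberman
import Cfsg.Agent.Lib.PGroups.Omega

/-!
# Non-simple minimal non-`p`-closed groups
-/

set_option autoImplicit false

namespace Cfsg.Agent.Lib.MinimalNonClosed67

open scoped commutatorElement Pointwise
open Cfsg Cfsg.Agent.Lib

variable {G : Type*} [Group G] [Finite G] {p : ℕ} [hp : Fact p.Prime]

/-- A characteristic subgroup of a normal subgroup is normal: image in the ambient group. -/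
theorem normal_map_subtype {K : Subgroup G} [K.Normal] (C : Subgroup K) [C.Characteristic] :
    (C.map K.subtype).Normal :=
  ConjAct.normal_of_characteristic_of_normal

/-- Normal Sylow in a normal subgroup containing a Sylow subgroup. -/
theorem sylow_normal_of_closed {K : Subgroup G} [K.Normal] (hK : IsPClosed p K) (P : Sylow p G)
    (hP : (P : Subgroup G) ≤ K) : (P : Subgroup G).Normal := by
  have hn : ((P.subtype hP) : Subgroup K).Normal := hK _
  have := Sylow.characteristic_of_normal _ hn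
  have h := normal_map_subtype (K := K) ((P.subtype hP) : Subgroup K)
  rwa [Sylow.coe_subtype, Subgroup.subgroupOf_map_subtype, inf_eq_left.2 hP] at h

/-- A normalising `p'`-subgroup commutes with a normal subgroup of a closed product. -/
theorem commute_of_closed {H M Q : Subgroup G} (hMH : M ≤ H) (hQH : Q ≤ H) (hH : IsPClosed p H)
    (hM : IsPGroup p M) (hidx : ¬ p ∣ (M.subgroupOf H).index)
    (hn : ∀ m ∈ M, ∀ a ∈ Q, m * a * m⁻¹ ∈ Q) (hd : M ⊓ Q = ⊥) :
    ∀ m ∈ M, ∀ a ∈ Q, m * a = a * m := by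
  have hMn : (M.subgroupOf H).Normal :=
    hH ((hM.of_equiv (Subgroup.subgroupOfEquivOfLe hMH).symm).toSylow hidx)
  intro m hm a ha
  rw [← commutatorElement_eq_one_iff_mul_comm, ← Subgroup.mem_bot, ← hd]
  refine Subgroup.mem_inf.2 ⟨?_, ?_⟩
  · rw [show ⁅m, a⁆ = m * (a * m⁻¹ * a⁻¹) by simp [commutatorElement_def, mul_assoc]]
    refine mul_mem hm ?_
    have := hMn.conj_mem ⟨m⁻¹, hMH (inv_mem hm)⟩ (inv_mem hm) ⟨a, hQH ha⟩
    simpa [Subgroup.mem_subgroupOf] using this
  · rw [commutatorElement_def]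
    exact mul_mem (hn m hm a ha) (inv_mem ha)

/-- The structure theorem. -/
theorem structure_of_not_simple (hnc : ¬ IsPClosed p G) (hsub : ∀ H : Subgroup G, H ≠ ⊤ → IsPClosed p ↥H)
    (hquo : ∀ (N : Subgroup G) [N.Normal], N ≠ ⊥ → IsPClosed p (G ⧸ N)) (hns : ¬ IsSimpleGroup G) :
    ∃ q : ℕ, q.Prime ∧ q ≠ p ∧ Nat.card G = p * q ^ orderOf (q : ZMod p) ∧
      ∃ A : Subgroup G, A.Normal ∧ Nat.card ↥A = q ^ orderOf (q : ZMod p) ∧ IsElementaryAbelian q A ∧
        ∀ B : Subgroup G, B.Normal → B ≤ A → B = ⊥ ∨ B = A := by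
  classical
  obtain ⟨P⟩ : Nonempty (Sylow p G) := inferInstance
  have hPn : ¬ (P : Subgroup G).Normal := fun h => hnc fun Q => by
    have := P.unique_of_normal h
    rwa [Subsingleton.elim Q P]
  have : Nontrivial G := by
    by_contra h
    rw [not_nontrivial_iff_subsingleton] at h
    exact hPn ⟨fun x hx g => by rwa [Subsingleton.elim (g * x * g⁻¹) x]⟩
  obtain ⟨N0, hN0n, hN0b, hN0t⟩ : ∃ N : Subgroup G, N.Normal ∧ N ≠ ⊥ ∧ N ≠ ⊤ := by
    by_contra h
    push Not at h
    exact hns ⟨fun H hH => (eq_or_ne H ⊥).imp id (h H hH)⟩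
  obtain ⟨N, ⟨hNn, hN1, hNle⟩, hNmin⟩ :=
    (Set.toFinite {N : Subgroup G | N.Normal ∧ N ≠ ⊥ ∧ N ≤ N0}).exists_minimal ⟨N0, hN0n, hN0b, le_rfl⟩
  have hNT : N ≠ ⊤ := fun h => hN0t (eq_top_iff.2 (h ▸ hNle))
  have hmin : ∀ B : Subgroup G, B.Normal → B ≤ N → B = ⊥ ∨ B = N := fun B hB hBN =>
    (eq_or_ne B ⊥).imp id fun hb => le_antisymm hBN (hNmin ⟨hB, hb, hBN.trans hNle⟩ hBN)
  have hPNn : ((P : Subgroup G) ⊔ N).Normal := by
    let Q : Sylow p (G ⧸ N) := P.mapSurjective (QuotientGroup.mk'_surjective N)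
    have h2 : ((P : Subgroup G).map (QuotientGroup.mk' N)).Normal := by
      have := hquo N hN1 Q
      rwa [show ((Q : Subgroup (G ⧸ N))) = (P : Subgroup G).map (QuotientGroup.mk' N) from
        Sylow.coe_mapSurjective _ _] at this
    have h3 := h2.comap (QuotientGroup.mk' N)
    rwa [Subgroup.comap_map_eq, QuotientGroup.ker_mk'] at h3
  have hPN : (P : Subgroup G) ⊔ N = ⊤ := by
    by_contra h
    exact hPn (sylow_normal_of_closed (hsub _ h) P le_sup_left)
  have hpN : ¬ p ∣ Nat.card N := by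
    intro hd
    obtain ⟨S⟩ : Nonempty (Sylow p N) := inferInstance
    have := Sylow.characteristic_of_normal S (hsub N hNT S)
    have hSn := normal_map_subtype (K := N) (S : Subgroup N)
    have hS1 : (S : Subgroup N).map N.subtype ≠ ⊥ := fun h => by
      have h' : (S : Subgroup N) = ⊥ := (Subgroup.map_eq_bot_iff_of_injective _ N.subtype_injective).1 h
      have := S.dvd_card_of_dvd_card hd
      rw [h', Subgroup.card_bot] at this
      exact hp.out.one_lt.not_ge (Nat.le_of_dvd one_pos this)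
    have hNS := (hmin _ hSn (Subgroup.map_subtype_le _)).resolve_left hS1
    have hNp : IsPGroup p N := by rw [← hNS]; exact S.2.map _
    obtain ⟨R, hR⟩ := hNp.exists_le_sylow
    obtain ⟨g, hg⟩ := MulAction.exists_smul_eq G R P
    have hNP : N ≤ (P : Subgroup G) := by
      rw [← hg]
      intro x hx
      rw [Sylow.coe_subgroup_smul, Subgroup.mem_pointwise_smul_iff_inv_smul_mem]
      exact hR (by simpa using hNn.conj_mem x hx g⁻¹)
    rw [sup_eq_left.2 hNP] at hPN
    exact hPn (by rw [hPN]; infer_instance)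
  have hcop : (Nat.card (P : Subgroup G)).Coprime (Nat.card N) := by
    obtain ⟨k, hk⟩ := IsPGroup.iff_card.1 P.2
    rw [hk]
    exact Nat.Coprime.pow_left k (hp.out.coprime_iff_not_dvd.2 hpN)
  have hdisj : (P : Subgroup G) ⊓ N = ⊥ := Subgroup.inf_eq_bot_of_coprime hcop
  have hnot : ¬ N ≤ Subgroup.centralizer ((P : Subgroup G) : Set G) := by
    intro h
    refine hPn ?_
    rw [← Subgroup.normalizer_eq_top_iff, eq_top_iff, ← hPN]
    exact sup_le Subgroup.le_normalizer (h.trans (fun x hx => by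
      refine Subgroup.mem_normalizer_iff.2 fun y => ?_
      constructor
      · intro hy
        rwa [← Subgroup.mem_centralizer_iff.1 hx y hy, mul_inv_cancel_right]
      · intro hy
        have h1 := Subgroup.mem_centralizer_iff.1 hx _ hy
        have h2 : x * y * x⁻¹ = y := by
          have h3 : x * y = x * (x * y * x⁻¹) := by rw [← h1]; group
          exact (mul_left_cancel h3).symm
        rwa [h2] at hy))
  have : Group.IsNilpotent (P : Subgroup G) := P.2.isNilpotent
  have hPsol : Group.IsSolvable (P : Subgroup G) := inferInstance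
  have hPnN : (P : Subgroup G) ≤ Subgroup.normalizer (N : Set G) := by
    rw [Subgroup.normalizer_eq_top]; exact le_top
  -- an invariant Sylow subgroup not centralised by `P`
  obtain ⟨q, hq, Q, hQN, hPQ, hQc, hQp⟩ : ∃ (q : ℕ) (_ : q.Prime) (Q : Subgroup G), Q ≤ N ∧
      (P : Subgroup G) ≤ Subgroup.normalizer (Q : Set G) ∧
      ¬ Q ≤ Subgroup.centralizer ((P : Subgroup G) : Set G) ∧ IsPGroup q Q := by
    by_contra h
    refine hnot ?_
    set C := N ⊓ Subgroup.centralizer ((P : Subgroup G) : Set G)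
    have hd : Nat.card N ∣ Nat.card C := by
      refine (Nat.factorization_prime_le_iff_dvd Nat.card_pos.ne' Nat.card_pos.ne').1 fun r hr => ?_
      have := Fact.mk hr
      obtain ⟨S, hS⟩ := Coprime.exists_invariant_sylow hPnN hcop (Or.inl hPsol) r
      have hSC : (S : Subgroup N).map N.subtype ≤ C := le_inf (Subgroup.map_subtype_le _) (by
        by_contra hc
        exact h ⟨r, hr, _, Subgroup.map_subtype_le _, hS, hc, S.2.map _⟩)
      have h1 := Subgroup.card_dvd_of_le hSC
      rw [← Nat.card_congr ((S : Subgroup N).equivMapOfInjective N.subtype N.subtype_injective).toEquiv,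
        S.card_eq_multiplicity] at h1
      exact (hr.pow_dvd_iff_le_factorization Nat.card_pos.ne').1 h1
    have hCN := Subgroup.eq_of_le_of_card_ge (inf_le_left : C ≤ N) (Nat.le_of_dvd Nat.card_pos hd)
    exact hCN.ge.trans inf_le_right
  have := Fact.mk hq
  have hPQtop : (P : Subgroup G) ⊔ Q = ⊤ := by
    by_contra h
    refine hQc fun a ha => Subgroup.mem_centralizer_iff.2 fun m hm => ?_
    refine commute_of_closed (le_sup_left : (P : Subgroup G) ≤ _) le_sup_right (hsub _ h) P.2 ?_ ?_ ?_ m hm a ha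
    · exact fun hd => P.not_dvd_index (hd.trans (Subgroup.relIndex_dvd_index_of_le le_sup_left))
    · exact fun m hm a ha => (Subgroup.mem_normalizer_iff.1 (hPQ hm) a).1 ha
    · exact eq_bot_iff.2 (le_trans (inf_le_inf_left _ hQN) hdisj.le)
  have hQeq : Q = N := le_antisymm hQN fun x hx => by
    have hx' : x ∈ ((Q : Set G) * ((P : Subgroup G) : Set G)) := by
      rw [← Subgroup.coe_mul_of_right_le_normalizer_left Q _ hPQ, sup_comm, hPQtop]
      exact Subgroup.mem_top x
    obtain ⟨a, ha, b, hb, rfl⟩ := hx'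
    have : b ∈ (P : Subgroup G) ⊓ N := ⟨hb, (Subgroup.mul_mem_cancel_left N (hQN ha)).1 hx⟩
    rw [hdisj, Subgroup.mem_bot] at this
    rw [this]; simpa using ha
  subst hQeq
  have hqp : q ≠ p := by
    rintro rfl
    obtain ⟨k, hk⟩ := IsPGroup.iff_card.1 hQp
    rcases Nat.eq_zero_or_pos k with rfl | hk0
    · exact hN1 (Subgroup.card_eq_one.1 (by simpa using hk))
    · exact hpN (hk ▸ dvd_pow_self q hk0.ne')
  have : Nontrivial Q := (Subgroup.nontrivial_iff_ne_bot Q).2 hN1
  have hQab : IsMulCommutative ↥Q := by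
    have hc : (Subgroup.center ↥Q).map Q.subtype ≠ ⊥ := fun h => by
      rw [Subgroup.map_eq_bot_iff_of_injective _ Q.subtype_injective] at h
      exact hQp.bot_lt_center.ne' h
    have heq := (hmin _ (normal_map_subtype (Subgroup.center ↥Q)) (Subgroup.map_subtype_le _)).resolve_left hc
    refine ⟨⟨fun a b => ?_⟩⟩
    obtain ⟨a', ha', hae⟩ : (a : G) ∈ (Subgroup.center ↥Q).map Q.subtype := by rw [heq]; exact a.2
    have : a' = a := Subtype.ext hae
    subst this
    exact (Subgroup.mem_center_iff.1 ha' b).symm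
  have hQel : IsElementaryAbelian q Q := by
    have hne : Cfsg.omegaOne q Q ≠ ⊥ := fun h => by
      obtain ⟨k, hk⟩ := IsPGroup.iff_card.1 hQp
      have hk0 : k ≠ 0 := fun h0 => hN1 (Subgroup.card_eq_one.1 (by rw [hk, h0, pow_zero]))
      obtain ⟨z, hz⟩ := exists_prime_orderOf_dvd_card' q (hk ▸ dvd_pow_self q hk0)
      have hm : (z : G) ∈ Cfsg.omegaOne q Q := PGroups.mem_omegaOne_of_pow z.2
        (by rw [← Subgroup.coe_pow, ← hz, pow_orderOf_eq_one]; rfl)
      rw [h, Subgroup.mem_bot, OneMemClass.coe_eq_one] at hm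
      rw [hm, orderOf_one] at hz
      exact hq.one_lt.ne hz
    rw [← (hmin _ PGroups.omegaOne_normal (Cfsg.Agent.Lib.PGroups.omegaOne_le q Q)).resolve_left hne]
    exact PGroups.elemAb_omegaOne hQab
  -- proper subgroups of `P` centralise `Q`
  have hprop : ∀ M : Subgroup G, M ≤ (P : Subgroup G) → M ≠ (P : Subgroup G) →
      ∀ m ∈ M, ∀ a ∈ Q, m * a = a * m := by
    intro M hM hne
    have hMn : M ≤ Subgroup.normalizer (Q : Set G) := hM.trans hPQ
    have htop : M ⊔ Q ≠ ⊤ := by
      intro h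
      refine hne (le_antisymm hM fun x hx => ?_)
      have hx' : x ∈ ((Q : Set G) * (M : Set G)) := by
        rw [← Subgroup.coe_mul_of_right_le_normalizer_left Q M hMn, sup_comm, h]
        exact Subgroup.mem_top x
      obtain ⟨a, ha, b, hb, rfl⟩ := hx'
      have : a ∈ (P : Subgroup G) ⊓ Q :=
        ⟨(Subgroup.mul_mem_cancel_right _ (hM hb)).1 hx, ha⟩
      rw [hdisj, Subgroup.mem_bot] at this
      rw [this]; simpa using hb
    refine commute_of_closed le_sup_left le_sup_right (hsub _ htop) (P.2.to_le hM) ?_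
      (fun m hm a ha => (Subgroup.mem_normalizer_iff.1 (hMn hm) a).1 ha)
      (eq_bot_iff.2 (le_trans (inf_le_inf_right _ hM) hdisj.le))
    rw [show (M.subgroupOf (M ⊔ Q)).index = M.relIndex (M ⊔ Q) from rfl]
    intro hd
    have hQ : M.relIndex (M ⊔ Q) ∣ Nat.card Q := by
      rw [sup_comm]
      have h1 := Subgroup.card_mul_index (M.subgroupOf (Q ⊔ M))
      rw [Nat.card_congr (Subgroup.subgroupOfEquivOfLe le_sup_right).toEquiv] at h1
      have h2 := Subgroup.relIndex_sup_left M Q
      have hQn : M ≤ Subgroup.normalizer (Q : Set G) := hMn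
      have hcard : Nat.card ↥(Q ⊔ M) ∣ Nat.card Q * Nat.card M := by
        have hinj : Nat.card ↥(Q ⊔ M) ≤ Nat.card Q * Nat.card M := by
          rw [← Nat.card_prod]
          refine Nat.card_le_card_of_surjective
            (fun x : ↥Q × ↥M => (⟨(x.1 : G) * x.2, mul_mem (Subgroup.mem_sup_left x.1.2)
              (Subgroup.mem_sup_right x.2.2)⟩ : ↥(Q ⊔ M))) ?_
          rintro ⟨y, hy⟩
          rw [← SetLike.mem_coe, Subgroup.coe_mul_of_right_le_normalizer_left Q M hQn] at hy
          obtain ⟨a, ha, b, hb, rfl⟩ := hy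
          exact ⟨(⟨a, ha⟩, ⟨b, hb⟩), rfl⟩
        have hdq : Nat.card Q * Nat.card M ∣ Nat.card ↥(Q ⊔ M) :=
          ((hcop.coprime_dvd_left (Subgroup.card_dvd_of_le hM)).symm).mul_dvd_of_dvd_of_dvd
            (Subgroup.card_dvd_of_le le_sup_left) (Subgroup.card_dvd_of_le le_sup_right)
        rw [le_antisymm hinj (Nat.le_of_dvd Nat.card_pos hdq)]
      rw [← h1, mul_comm (Nat.card Q)] at hcard
      exact Nat.dvd_of_mul_dvd_mul_left Nat.card_pos hcard
    exact hpN (hd.trans hQ)
  obtain ⟨x, hxP, hxQ⟩ : ∃ x ∈ (P : Subgroup G), ∃ a ∈ Q, x * a ≠ a * x := by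
    by_contra h
    push Not at h
    exact hQc fun a ha => Subgroup.mem_centralizer_iff.2 fun m hm => h m hm a ha
  -- `P` is faithful, hence of order `p`
  have hfaith : ∀ m ∈ (P : Subgroup G), (∀ a ∈ Q, m * a = a * m) → m = 1 := by
    set C := (P : Subgroup G) ⊓ Subgroup.centralizer (Q : Set G)
    have hCn : C.Normal := by
      rw [← Subgroup.normalizer_eq_top_iff, eq_top_iff, ← hPQtop]
      refine sup_le ?_ ?_
      · intro g hg
        have hgQ := Subgroup.mem_normalizer_iff.1 (hPQ hg)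
        have key : ∀ g' : G, g' ∈ (P : Subgroup G) → (∀ a, a ∈ Q ↔ g' * a * g'⁻¹ ∈ Q) →
            ∀ y ∈ C, g' * y * g'⁻¹ ∈ C := by
          intro g' hg' hgQ' y hy
          obtain ⟨hy1, hy2⟩ := Subgroup.mem_inf.1 hy
          refine Subgroup.mem_inf.2 ⟨mul_mem (mul_mem hg' hy1) (inv_mem hg'),
            Subgroup.mem_centralizer_iff.2 fun a ha => ?_⟩
          have h1 : g'⁻¹ * a * g' ∈ Q := (hgQ' _).2 (by simpa [mul_assoc] using ha)
          have h2 := Subgroup.mem_centralizer_iff.1 hy2 _ h1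
          calc a * (g' * y * g'⁻¹) = g' * (g'⁻¹ * a * g' * y) * g'⁻¹ := by group
            _ = g' * (y * (g'⁻¹ * a * g')) * g'⁻¹ := by rw [h2]
            _ = g' * y * g'⁻¹ * a := by group
        refine Subgroup.mem_normalizer_iff.2 fun y => ⟨fun hy => key g hg hgQ y hy, fun hy => ?_⟩
        have := key g⁻¹ (inv_mem hg) (Subgroup.mem_normalizer_iff.1 (hPQ (inv_mem hg))) _ hy
        simpa [mul_assoc] using this
      · intro a ha
        refine Subgroup.mem_normalizer_iff.2 fun y => ?_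
        constructor
        · rintro ⟨hy1, hy2⟩
          rw [show a * y * a⁻¹ = y by rw [Subgroup.mem_centralizer_iff.1 hy2 a ha, mul_inv_cancel_right]]
          exact ⟨hy1, hy2⟩
        · rintro ⟨hy1, hy2⟩
          have h1 := Subgroup.mem_centralizer_iff.1 hy2 a ha
          have h2 : a * y * a⁻¹ = y := by
            have h3 : a * y = a * (a * y * a⁻¹) := by rw [h1]; group
            exact (mul_left_cancel h3).symm
          rw [h2] at hy1 hy2
          exact ⟨hy1, hy2⟩
    intro m hm hmc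
    by_contra hm1
    have hC1 : C ≠ ⊥ := fun h => hm1 (Subgroup.mem_bot.1 (h ▸
      Subgroup.mem_inf.2 ⟨hm, Subgroup.mem_centralizer_iff.2 fun a ha => (hmc a ha).symm⟩))
    refine hPn ?_
    have h2 : ((P : Subgroup G).map (QuotientGroup.mk' C)).Normal := by
      have := hquo C hC1 (P.mapSurjective (QuotientGroup.mk'_surjective C))
      rwa [Sylow.coe_mapSurjective] at this
    have h3 := h2.comap (QuotientGroup.mk' C)
    rwa [Subgroup.comap_map_eq, QuotientGroup.ker_mk', sup_eq_left.2 (inf_le_left : C ≤ _)] at h3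
  have hsubP : ∀ M : Subgroup G, M ≤ (P : Subgroup G) → M ≠ (P : Subgroup G) → M = ⊥ := fun M hM hne =>
    (Subgroup.eq_bot_iff_forall _).2 fun m hm => hfaith m (hM hm) (hprop M hM hne m hm)
  have hx1 : x ≠ 1 := fun h => by obtain ⟨a, -, hxa⟩ := hxQ; exact hxa (by rw [h, one_mul, mul_one])
  obtain ⟨j, hj⟩ := IsPGroup.iff_orderOf.1 P.2 ⟨x, hxP⟩
  rw [Subgroup.orderOf_mk] at hj
  have hj0 : j ≠ 0 := fun h => hx1 (orderOf_eq_one_iff.1 (by rw [hj, h, pow_zero]))
  obtain ⟨u, hu⟩ : ∃ u, u = x ^ p ^ (j - 1) := ⟨_, rfl⟩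
  have huo : orderOf u = p := by
    rw [hu, orderOf_pow_of_dvd (pow_ne_zero _ hp.out.ne_zero) (hj ▸ pow_dvd_pow p (j.sub_le 1)), hj,
      Nat.pow_div (j.sub_le 1) hp.out.pos, show j - (j - 1) = 1 by omega, pow_one]
  have huP : Subgroup.zpowers u = (P : Subgroup G) := by
    by_contra hne
    have h := hsubP _ (Subgroup.zpowers_le.2 (hu ▸ pow_mem hxP _)) hne
    rw [Subgroup.zpowers_eq_bot] at h
    rw [h, orderOf_one] at huo
    exact hp.out.one_lt.ne huo
  have hPcard : Nat.card (P : Subgroup G) = p := by rw [← huP, Nat.card_zpowers, huo]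
  have hGcard : Nat.card G = p * Nat.card Q := by
    rw [← hPcard, ← Subgroup.card_top (G := G), ← hPQtop]
    refine le_antisymm ?_ (Nat.le_of_dvd Nat.card_pos
      (hcop.mul_dvd_of_dvd_of_dvd (Subgroup.card_dvd_of_le le_sup_left) (Subgroup.card_dvd_of_le le_sup_right)))
    rw [← Nat.card_prod]
    refine Nat.card_le_card_of_surjective
      (fun y : ↥(P : Subgroup G) × ↥Q => (⟨(y.1 : G) * y.2, mul_mem (Subgroup.mem_sup_left y.1.2)
        (Subgroup.mem_sup_right y.2.2)⟩ : ↥((P : Subgroup G) ⊔ Q))) ?_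
    rintro ⟨y, hy⟩
    rw [← SetLike.mem_coe, Subgroup.coe_mul_of_left_le_normalizer_right _ Q hPQ] at hy
    obtain ⟨a, ha, b, hb, rfl⟩ := hy
    exact ⟨(⟨a, ha⟩, ⟨b, hb⟩), rfl⟩
  obtain ⟨a, ha, hua⟩ : ∃ a ∈ Q, u * a ≠ a * u := by
    by_contra h
    push Not at h
    have := hfaith u (huP ▸ Subgroup.mem_zpowers u) h
    rw [this, orderOf_one] at huo
    exact hp.out.one_lt.ne huo
  have hcardQ : Nat.card Q = q ^ orderOf (q : ZMod p) := by
    refine card_eq_of_irreducible hqp hQel (huo ▸ pow_orderOf_eq_one u) ha hua fun B hB hinv => ?_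
    refine hmin B ?_ hB
    rw [← Subgroup.normalizer_eq_top_iff, eq_top_iff, ← hPQtop, ← huP]
    refine sup_le (Subgroup.zpowers_le.2 ?_) fun a ha => ?_
    · have hle : B.map (MulAut.conj u).toMonoidHom ≤ B := by
        rintro _ ⟨b, hb, rfl⟩
        exact hinv b hb
      have heq : B.map (MulAut.conj u).toMonoidHom = B := Subgroup.eq_of_le_of_card_ge hle
        (le_of_eq (Nat.card_congr (B.equivMapOfInjective _ (MulAut.conj u).injective).toEquiv))
      refine Subgroup.mem_normalizer_iff.2 fun y => ⟨fun hy => hinv y hy, fun hy => ?_⟩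
      rw [← heq] at hy
      obtain ⟨b, hb, he⟩ := hy
      rwa [show y = b from ((MulAut.conj u).injective (by simpa [MulAut.conj_apply] using he)).symm]
    · refine Subgroup.mem_normalizer_iff.2 fun y => ?_
      constructor
      · intro hy
        rwa [PGroups.elemAb_comm hQel ha (hB hy), mul_inv_cancel_right]
      · intro hy
        have h1 := PGroups.elemAb_comm hQel ha (hB hy)
        have h2 : a * y * a⁻¹ = y := by
          have h3 : a * y = a * (a * y * a⁻¹) := by rw [h1]; group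
          exact (mul_left_cancel h3).symm
        rwa [h2] at hy
  exact ⟨q, hq, hqp, by rw [hGcard, hcardQ], Q, inferInstance, hcardQ, hQel, hmin⟩

end Cfsg.Agent.Lib.MinimalNonClosed67
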